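/-
Checks on the tables of type E7.
-/
import Cfsg.Agent.Chevalley.DataE7.Tab

set_option autoImplicit false
set_option maxRecDepth 100000

namespace Cfsg.Agent.Chevalley.E7

open Cfsg.Lie

theorem chkRows : tab.chkRows chevE7 = true := by decide +kernel

theorem chkRoots : tab.chkRoots chevE7 = true := by decide +kernel

theorem chkSimple : tab.chkSimple chevE7 = true := by decide +kernel

theorem chkPos : tab.chkPos chevE7 = true := by decide +kernel

theorem chkThird : Tab.chkThird chevE7 = true := by decide +kernel

end Cfsg.Agent.Chevalley.E7
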