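/-
Checks for a fundamental reflection of type E7.
-/
import Cfsg.Agent.Chevalley.DataE7.Tab

set_option autoImplicit false
set_option maxRecDepth 100000

namespace Cfsg.Agent.Chevalley.E7

open Cfsg.Lie

theorem chkW2 : tab.chkW chevE7 2 = true := by decide +kernel

theorem chkChainW2 : tab.chkChainW chevE7 2 = true := by decide +kernel

theorem chkN2 : tab.chkN chevE7 2 = true := by decide +kernel

end Cfsg.Agent.Chevalley.E7
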