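/-
Checks at the highest roots of type E7.
-/
import Cfsg.Agent.Chevalley.DataE7.Tab

set_option autoImplicit false
set_option maxRecDepth 100000

namespace Cfsg.Agent.Chevalley.E7

open Cfsg.Lie

theorem chkAdd : tab.chkAdd chevE7 = true := by decide +kernel

theorem chkComm : tab.chkComm chevE7 = true := by decide +kernel

end Cfsg.Agent.Chevalley.E7
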